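import Mathlib
import Cfsg.Statements.S1350
import Cfsg.Statements.S1403
import Cfsg.Statements.S1414
import Cfsg.Statements.S1416
import Cfsg.Statements.S1417
import Cfsg.Statements.S1424
import Cfsg.Agent.Lib.Helper74.BG.Tools
import Cfsg.Agent.Lib.Helper67.BG.Basics
import Cfsg.Agent.Lib.Helper47.Minimal
import Cfsg.Agent.Lib.Helper47.BG.SigmaNe
import Cfsg.Agent.Lib.Helper77.CyclicAct
import Cfsg.Agent.Lib.Helper2.BG.S1424Core
import Cfsg.Agent.Lib.Helper78.BG.S1405Core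
import Cfsg.Agent.Lib.Helper75.BGUtil
import Cfsg.Agent.Lib.Helper24.PRank
import Cfsg.Agent.Lib.Helper23.Transitivity
import Cfsg.Agent.Lib.Helper20.BG.S1408Core

/-!
Bender–Glauberman Lemma 12.14 (statement S1425: a nontrivial `σ(M)`-subgroup of `G` is conjugate
into `M_σ`), derived from S1350 (`M_σ` is a Hall subgroup), S1403 (uniqueness theorem), S1414
(`M_β`), S1416 (`C_G(A) ≤ M`), S1417 (`τ₂` structure) and S1424 (BG 12.13 (a)–(c)), all taken as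
hypotheses.
-/

set_option autoImplicit false

namespace Cfsg.Agent.Lib.Helper74.BG

open Cfsg Cfsg.Agent.Lib.Helper46 Cfsg.Agent.Lib.Helper35.BG

/-- The image in `G` of a normal subgroup of `M` is normalized by `M`. -/
theorem le_normalizer_map_subtype_of_normal {G : Type*} [Group G] (M : Subgroup G)
    (N : Subgroup M) [hN : N.Normal] :
    M ≤ Subgroup.normalizer ((N.map M.subtype : Subgroup G) : Set G) := by
  intro x hx
  rw [Subgroup.mem_normalizer_iff]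
  have key : ∀ y : G, y ∈ M → ∀ w, w ∈ N.map M.subtype → y * w * y⁻¹ ∈ N.map M.subtype := by
    rintro y hy _ ⟨w, hw, rfl⟩
    exact ⟨⟨y, hy⟩ * w * ⟨y, hy⟩⁻¹, hN.conj_mem w hw ⟨y, hy⟩, rfl⟩
  intro w
  constructor
  · exact key x hx w
  · intro h
    have := key x⁻¹ (M.inv_mem hx) _ h
    simpa [mul_assoc] using this

/-- A `σ(M)`-subgroup of `M` lies in `M_σ` (when `M_σ` is a Hall subgroup of `M`). -/
theorem le_sigmaCore_of_le {G : Type*} [Group G] [Finite G] {M Z : Subgroup G}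
    (hHall : IsPiHallOf (sigma M) (sigmaCore M) M) (hZM : Z ≤ M)
    (hZ : ∀ p : ℕ, p.Prime → p ∣ Nat.card Z → p ∈ sigma M) : Z ≤ sigmaCore M :=
  le_of_isPiHallOf_of_normal hHall (Cfsg.Agent.Lib.Helper67.BG.sigmaCore_normalizer M) hZM hZ

/-- A Sylow subgroup of `H` is a Sylow subgroup of `K ≥ H` when `p ∤ |K : H|`. -/
theorem isSylowIn_of_isSylowIn_of_not_dvd {G : Type*} [Group G] [Finite G] {p : ℕ}
    [Fact p.Prime] {Q H K : Subgroup G} (hQ : IsSylowIn p Q H) (hHK : H ≤ K)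
    (h : ¬ p ∣ H.relIndex K) : IsSylowIn p Q K := by
  refine ⟨hQ.1.trans hHK, ?_⟩
  rw [hQ.2]
  congr 1
  have hcard : Nat.card K = Nat.card H * H.relIndex K :=
    Cfsg.Agent.Lib.Helper1.card_eq_card_mul_relIndex hHK
  have hr0 : H.relIndex K ≠ 0 := by
    intro h0
    rw [h0, mul_zero] at hcard
    exact Nat.card_pos.ne' hcard
  rw [hcard, Nat.factorization_mul Nat.card_pos.ne' hr0, Finsupp.add_apply,
    Nat.factorization_eq_zero_of_not_dvd h, add_zero]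

/-- An abelian subgroup of exponent `r` and order larger than `r ^ k` has `r`-rank larger than
`k`. -/
theorem not_pRankLE_self {G : Type*} [Group G] {r k : ℕ} {B : Subgroup G}
    (hBc : ∀ a ∈ B, ∀ b ∈ B, a * b = b * a) (hBe : ∀ a ∈ B, a ^ r = 1)
    (hcard : r ^ k < Nat.card B) : ¬ PRankLE r k B := by
  rw [Cfsg.Agent.Lib.Helper24.pRankLE_subgroup_iff]
  intro h
  have := h B le_rfl hBc hBe
  omega

/-- If `r ∈ σ(M)` and the maximal subgroup `M*` has `r`-rank at least `3`, then `M*` is conjugate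
to `M` (uniqueness theorem). -/
theorem conj_of_sigma_of_rank3 {G : Type*} [Group G] [Finite G] (hG : Cfsg.IsMinSimpleOddOrder G)
    (h1403 : type_of% (@Cfsg.CfsgFrozen.S1403 G _ _ hG))
    {M Ms : Subgroup G} (hM : IsCoatom M) (hMs : IsCoatom Ms) {r : ℕ} [Fact r.Prime]
    (hr : r ∈ sigma M) (hrk : ¬ PRankLE r 2 Ms) :
    ∃ g : G, Ms = M.map (MulAut.conj g).toMonoidHom := by
  have hrp : r.Prime := Fact.out
  rw [Cfsg.Agent.Lib.Helper24.pRankLE_subgroup_iff] at hrk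
  push Not at hrk
  obtain ⟨B, hBMs, hBc, hBe, hBcard⟩ := hrk
  have hBp : IsPGroup r B := by
    intro b
    exact ⟨1, by rw [pow_one]; exact Subtype.ext (hBe b b.2)⟩
  obtain ⟨-, -, P₀, -⟩ := id hr
  have hR : IsSylowIn r ((P₀ : Subgroup M).map M.subtype) M := isSylowIn_of_sylow P₀
  have hRtop : IsSylowIn r ((P₀ : Subgroup M).map M.subtype) ⊤ := isSylowIn_top_of_sigma hr hR
  obtain ⟨R', hR', hBR'⟩ := exists_isSylowIn_ge hBp (le_top : B ≤ ⊤)
  obtain ⟨g, -, hg⟩ := hRtop.exists_conj hR'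
  have hBMg : B ≤ M.map (MulAut.conj g).toMonoidHom := by
    rw [hg] at hBR'
    exact hBR'.trans (Subgroup.map_mono hR.1)
  have hBtop : B ≠ ⊤ := fun h => hMs.1 (top_le_iff.mp (h ▸ hBMs))
  have hB2 : ¬ PRankLE r 2 B := not_pRankLE_self hBc hBe hBcard
  have hB1 : ¬ PRankLE r 1 B := by
    apply not_pRankLE_self hBc hBe
    have : r ^ 1 ≤ r ^ 2 := Nat.pow_le_pow_right hrp.pos (by norm_num)
    omega
  have hU := h1403 B hBtop (not_rankLE_of_not_pRankLE hB1) (Or.inl (not_rankLE_of_not_pRankLE hB2))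
  exact ⟨g, hU.unique ⟨hMs, hBMs⟩ ⟨Cfsg.Agent.Lib.Helper47.isCoatom_map_conj hM g, hBMg⟩⟩

/-- Case `q ∈ σ(M*)` of BG 12.13(d): `M* = M*_β (M ∩ M*)` and `σ(M) ∩ β(M*) = ∅`. -/
theorem s1425_case_d {G : Type*} [Group G] [Finite G] (hG : Cfsg.IsMinSimpleOddOrder G)
    (h1350 : type_of% (@Cfsg.CfsgFrozen.S1350 G _ _ hG))
    (h1403 : type_of% (@Cfsg.CfsgFrozen.S1403 G _ _ hG))
    (h1414 : type_of% (@Cfsg.CfsgFrozen.S1414 G _ _ hG))
    {M Ms : Subgroup G} (hMs : IsCoatom Ms) {q : ℕ} [Fact q.Prime] (hq : q ∈ sigma M)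
    {S' : Subgroup G} (hSylMs : IsSylowIn q S' Ms)
    (hb : Subgroup.normalizer (S' : Set G) ≤ M)
    (hrank : ∀ r : ℕ, r.Prime → r ∈ sigma M → PRankLE r 2 Ms)
    (hqs : q ∈ sigma Ms) :
    ∃ N : Subgroup G, N ≤ Ms ∧ Ms ≤ Subgroup.normalizer (N : Set G) ∧
      (∀ m ∈ Ms, ∃ n ∈ N, ∃ d ∈ M ⊓ Ms, m = n * d) ∧
      ∀ r : ℕ, r.Prime → r ∈ sigma M → ¬ r ∣ Nat.card N := by
  have hqp : q.Prime := Fact.out
  have hS'q : IsPGroup q S' := sylIn_isPGroup hSylMs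
  have hS'Ms : S' ≤ Ms := hSylMs.1
  have hHallMs := (h1350 Ms hMs).1
  have hσle := Cfsg.Agent.Lib.Helper67.BG.sigmaCore_le Ms
  have hσnorm := Cfsg.Agent.Lib.Helper67.BG.sigmaCore_normalizer Ms
  have hS'σ : S' ≤ sigmaCore Ms := by
    apply le_sigmaCore_of_le hHallMs hS'Ms
    intro r hr hrd
    have := Cfsg.Agent.Lib.Helper67.BG.prime_eq_of_dvd_card_isPGroup hS'q hr hrd
    rw [this]; exact hqs
  have hS'σSyl : IsSylowIn q S' (sigmaCore Ms) := hSylMs.of_le hS'σ hσle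
  have hqβ : q ∉ beta Ms := fun h => h.1.2 (hrank q hqp hq)
  obtain ⟨hβHall, -, -, ⟨H, hH, hHnil⟩, -⟩ := h1414 Ms hMs
  obtain ⟨Q, hQ, -⟩ := exists_isSylowIn_ge (p := q) (Q := (⊥ : Subgroup G)) (H := H)
    IsPGroup.of_bot bot_le
  have hQσ : IsSylowIn q Q (sigmaCore Ms) :=
    isSylowIn_of_isSylowIn_of_not_dvd hQ hH.1 (hH.2.2 q hqp ⟨hqp, hqβ⟩)
  obtain ⟨g, hg, hgS⟩ := hQσ.exists_conj hS'σSyl
  obtain ⟨H₁, hH₁def⟩ : ∃ H₁ : Subgroup G, H₁ = H.map (MulAut.conj g).toMonoidHom := ⟨_, rfl⟩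
  have hH₁σ : H₁ ≤ sigmaCore Ms := by
    rw [hH₁def, ← map_conj_eq_of_mem hg]
    exact Subgroup.map_mono hH.1
  have hH₁card : Nat.card H₁ = Nat.card H := by rw [hH₁def, card_map_conj]
  have hS'H₁ : IsSylowIn q S' H₁ := by
    rw [hH₁def, hgS]; exact hQ.map (MulAut.conj g)
  have hH₁nil : Group.IsNilpotent H₁ := by
    haveI := hHnil
    rw [hH₁def]
    exact Group.nilpotent_of_mulEquiv (H.equivMapOfInjective _ (MulAut.conj g).injective)
  have hH₁M : H₁ ≤ M := (le_normalizer_of_isSylowIn_of_nilpotent hH₁nil hS'H₁).trans hb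
  have hH₁rel : H₁.relIndex (sigmaCore Ms) = H.relIndex (sigmaCore Ms) := by
    have h1 := Cfsg.Agent.Lib.Helper1.card_eq_card_mul_relIndex hH₁σ
    have h2 := Cfsg.Agent.Lib.Helper1.card_eq_card_mul_relIndex hH.1
    rw [h1, hH₁card] at h2
    exact Nat.eq_of_mul_eq_mul_left Nat.card_pos h2
  obtain ⟨Mβ, hMβdef⟩ : ∃ Mβ : Subgroup G, Mβ = piCoreOf (beta Ms) Ms := ⟨_, rfl⟩
  rw [← hMβdef] at hβHall
  have hMβnorm : Ms ≤ Subgroup.normalizer (Mβ : Set G) := by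
    rw [hMβdef]; exact le_normalizer_map_subtype_of_normal Ms (piCore (beta Ms) Ms)
  have hMβσ : Mβ ≤ sigmaCore Ms := by
    apply le_sigmaCore_of_le hHallMs hβHall.1
    intro r hr hrd
    exact Cfsg.Agent.Lib.Helper78.BG.alpha_subset_sigma hG h1403 Ms hMs (hβHall.2.1 r hr hrd).1
  have hsup : sigmaCore Ms ≤ Mβ ⊔ H₁ := by
    rw [← Subgroup.relIndex_eq_one]
    by_contra hne
    obtain ⟨r, hr, hrd⟩ := Nat.exists_prime_and_dvd hne
    have h1 : r ∣ H₁.relIndex (sigmaCore Ms) :=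
      hrd.trans (Subgroup.relIndex_dvd_of_le_left _ le_sup_right)
    have h2 : r ∣ Mβ.relIndex (sigmaCore Ms) :=
      hrd.trans (Subgroup.relIndex_dvd_of_le_left _ le_sup_left)
    have hrβ : r ∈ beta Ms := by
      by_contra hrβ
      exact hH.2.2 r hr ⟨hr, hrβ⟩ (hH₁rel ▸ h1)
    have h3 : Mβ.relIndex (sigmaCore Ms) ∣ Mβ.relIndex Ms :=
      Dvd.intro _ (Subgroup.relIndex_mul_relIndex _ _ _ hMβσ hσle)
    exact hβHall.2.2 r hr hrβ (h2.trans h3)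
  have hdecomp : ∀ v ∈ sigmaCore Ms, ∃ b ∈ Mβ, ∃ h ∈ H₁, v = b * h := by
    intro v hv
    have h1 : v ∈ ((Mβ ⊔ H₁ : Subgroup G) : Set G) := hsup hv
    rw [Subgroup.coe_mul_of_right_le_normalizer_left Mβ H₁
      ((hH₁σ.trans hσle).trans hMβnorm)] at h1
    obtain ⟨b, hb', h, hh, hbh⟩ := Set.mem_mul.mp h1
    exact ⟨b, hb', h, hh, hbh.symm⟩
  refine ⟨Mβ, hβHall.1, hMβnorm, ?_, ?_⟩
  · intro m hm
    obtain ⟨v, hv, hvm⟩ := frattini_arg hS'σSyl (hσnorm hm)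
    obtain ⟨b, hb', h, hh, hvbh⟩ := hdecomp v hv
    refine ⟨b, hb', h * (v⁻¹ * m), ?_, ?_⟩
    · refine Subgroup.mul_mem _ ⟨hH₁M hh, hσle (hH₁σ hh)⟩ ⟨hb hvm, ?_⟩
      exact Ms.mul_mem (Ms.inv_mem (hσle hv)) hm
    · rw [hvbh]; group
  · intro r hr hrσ hrd
    exact (hβHall.2.1 r hr hrd).1.2 (hrank r hr hrσ)

/-- Case `q ∉ σ(M*)` of BG 12.13(e): `M* = M*_σ (M ∩ M*)` and `σ(M) ∩ σ(M*) = ∅`. -/
theorem s1425_case_e {G : Type*} [Group G] [Finite G] (hG : Cfsg.IsMinSimpleOddOrder G)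
    (h1350 : type_of% (@Cfsg.CfsgFrozen.S1350 G _ _ hG))
    (h1416 : type_of% (@Cfsg.CfsgFrozen.S1416 G _ _ hG))
    (h1417 : type_of% (@Cfsg.CfsgFrozen.S1417 G _ _ hG))
    {M Ms : Subgroup G} (hM : IsCoatom M) (hMs : IsCoatom Ms) {q : ℕ} [Fact q.Prime]
    (hq : q ∈ sigma M) {X S' : Subgroup G} (hXS : X ≤ S')
    (hNX : Subgroup.normalizer (X : Set G) ≤ Ms)
    (hSylMs : IsSylowIn q S' Ms) (hS'1 : S' ≠ ⊥)
    (hb : Subgroup.normalizer (S' : Set G) ≤ M)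
    (ha : ∀ g : G, Ms ≠ M.map (MulAut.conj g).toMonoidHom)
    (hrank : ∀ r : ℕ, r.Prime → r ∈ sigma M → PRankLE r 2 Ms)
    (hqs : q ∉ sigma Ms) :
    ∃ N : Subgroup G, N ≤ Ms ∧ Ms ≤ Subgroup.normalizer (N : Set G) ∧
      (∀ m ∈ Ms, ∃ n ∈ N, ∃ d ∈ M ⊓ Ms, m = n * d) ∧
      ∀ r : ℕ, r.Prime → r ∈ sigma M → ¬ r ∣ Nat.card N := by
  have hqp : q.Prime := Fact.out
  have hq2 : q ≠ 2 := by
    intro h2
    have h3 : q ∣ Nat.card M := hq.2.1
    rw [h2] at h3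
    have h4 : 2 ∣ Nat.card G := h3.trans (Subgroup.card_subgroup_dvd_card M)
    exact (Nat.not_even_iff_odd.mpr hG.1) (even_iff_two_dvd.mpr h4)
  have hS'q : IsPGroup q S' := sylIn_isPGroup hSylMs
  have hS'Ms : S' ≤ Ms := hSylMs.1
  have hS'M : S' ≤ M := Subgroup.le_normalizer.trans hb
  have hHallMs := (h1350 Ms hMs).1
  have hσle := Cfsg.Agent.Lib.Helper67.BG.sigmaCore_le Ms
  have hσnorm := Cfsg.Agent.Lib.Helper67.BG.sigmaCore_normalizer Ms
  -- `S'` is not cyclic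
  have hnc : ¬ IsCyclic S' := by
    intro hcyc
    apply hqs
    obtain ⟨P, hP⟩ := hSylMs.exists_sylow
    refine ⟨hqp, (Cfsg.Agent.Lib.Helper67.BG.dvd_card_of_isPGroup_ne_bot hS'q hS'1).trans
      (Subgroup.card_dvd_of_le hS'Ms), P, ?_⟩
    rw [hP]
    exact (Cfsg.Agent.Lib.Helper77.normalizer_le_normalizer_of_isCyclic hcyc hXS).trans hNX
  obtain ⟨A, hAS, hAe, hAcard⟩ :=
    Cfsg.Agent.Lib.Helper2.BG.exists_ea_sq_of_not_isCyclic hq2 hS'q hnc
  have hAM : A ≤ M := hAS.trans hS'M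
  have hAMs : A ≤ Ms := hAS.trans hS'Ms
  have hAq : IsPGroup q A := Cfsg.Agent.Lib.Helper20.BG.isPGroup_of_ea hAe
  have hAc := Cfsg.Agent.Lib.Helper20.BG.ea_comm hAe
  have hτ : q ∈ tau2 Ms := by
    refine ⟨hqp, hqs, hrank q hqp hq, ?_⟩
    rw [Cfsg.Agent.Lib.Helper24.pRankLE_subgroup_iff]
    intro h
    have h1 := h A hAMs hAc hAe.2
    rw [hAcard] at h1
    have h2 : q ^ 1 < q ^ 2 := Nat.pow_lt_pow_right hqp.one_lt (by norm_num)
    omega
  obtain ⟨hnil, hSylAb, hnormK, -, -, -⟩ := h1417 Ms hMs q hτ A ⟨hAMs, hAe, hAcard⟩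
  -- `S'` is abelian, so it centralizes `A`
  have hS'C : S' ≤ Subgroup.centralizer (A : Set G) := by
    obtain ⟨P, hP⟩ := hSylMs.exists_sylow
    have hPc := (hSylAb P).1
    intro x hx
    rw [Subgroup.mem_centralizer_iff]
    intro a ha'
    have hax : a ∈ (P : Subgroup Ms).map Ms.subtype := by rw [hP]; exact hAS ha'
    have hxx : x ∈ (P : Subgroup Ms).map Ms.subtype := by rw [hP]; exact hx
    obtain ⟨a', ha'P, rfl⟩ := hax
    obtain ⟨x', hx'P, rfl⟩ := hxx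
    have h1 := (isMulCommutative_iff.mp hPc) ⟨a', ha'P⟩ ⟨x', hx'P⟩
    have h2 := congrArg (fun t : (P : Subgroup Ms) => ((t : Ms) : G)) h1
    simpa using h2
  have hCM : Subgroup.centralizer (A : Set G) ≤ M := (h1416 M hM q A ⟨hAM, hAe, hAcard⟩).1
  have hCMs : Subgroup.centralizer (A : Set G) ≤ Ms :=
    (h1416 Ms hMs q A ⟨hAMs, hAe, hAcard⟩).1
  have hSylC : IsSylowIn q S' (Subgroup.centralizer (A : Set G)) := hSylMs.of_le hS'C hCMs
  -- `N_G(A) ≤ M`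
  have hNA : Subgroup.normalizer (A : Set G) ≤ M := by
    intro l hl
    have hl' : l ∈ Subgroup.normalizer
        ((Subgroup.centralizer (A : Set G) : Subgroup G) : Set G) := by
      apply Cfsg.Agent.Lib.Helper75.BG.mem_normalizer_of_map_le
      rintro _ ⟨x, hx, rfl⟩
      have hx' := Subgroup.mem_centralizer_iff.mp hx
      rw [Subgroup.mem_centralizer_iff]
      intro a ha'
      have h1 : l⁻¹ * a * l ∈ A := (Subgroup.mem_normalizer_iff''.mp hl a).mp ha'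
      have h2 := hx' _ h1
      simp only [MulEquiv.coe_toMonoidHom, MulAut.conj_apply]
      calc a * (l * x * l⁻¹) = l * ((l⁻¹ * a * l) * x) * l⁻¹ := by group
        _ = l * (x * (l⁻¹ * a * l)) * l⁻¹ := by rw [h2]
        _ = l * x * l⁻¹ * a := by group
    obtain ⟨k, hk, hkl⟩ := frattini_arg hSylC hl'
    have : l = k * (k⁻¹ * l) := by group
    rw [this]
    exact M.mul_mem (hCM hk) (hb hkl)
  -- `K₁ = M*_σ A`
  have hAσnorm : A ≤ Subgroup.normalizer ((sigmaCore Ms : Subgroup G) : Set G) :=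
    hAMs.trans hσnorm
  have hK₁Ms : sigmaCore Ms ⊔ A ≤ Ms := sup_le hσle hAMs
  have hK₁dec : ∀ k ∈ sigmaCore Ms ⊔ A, ∃ u ∈ sigmaCore Ms, ∃ a ∈ A, k = u * a := by
    intro k hk
    have h1 : k ∈ ((sigmaCore Ms ⊔ A : Subgroup G) : Set G) := hk
    rw [Subgroup.coe_mul_of_right_le_normalizer_left (sigmaCore Ms) A hAσnorm] at h1
    obtain ⟨u, hu, a, ha', hua⟩ := Set.mem_mul.mp h1
    exact ⟨u, hu, a, ha', hua.symm⟩
  have hqσ : ¬ q ∣ Nat.card (sigmaCore Ms) :=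
    fun h => hqs (Cfsg.Agent.Lib.Helper67.BG.sigmaCore_isPi Ms q hqp h)
  have hASyl : IsSylowIn q A (sigmaCore Ms ⊔ A) := by
    apply isSylowIn_of_not_dvd_relIndex hAq le_sup_right
    intro h
    exact hqσ (h.trans
      (relIndex_dvd_card_of_forall_mul le_sup_left (hK₁Ms.trans hσnorm) hK₁dec))
  refine ⟨sigmaCore Ms, hσle, hσnorm, ?_, ?_⟩
  · intro m hm
    obtain ⟨k, hk, hkm⟩ := frattini_arg hASyl (hnormK hm)
    obtain ⟨u, hu, a, ha', hkua⟩ := hK₁dec k hk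
    refine ⟨u, hu, a * (k⁻¹ * m), ?_, ?_⟩
    · refine Subgroup.mul_mem _ ⟨hAM ha', hAMs ha'⟩ ⟨hNA hkm, ?_⟩
      exact Ms.mul_mem (Ms.inv_mem (hK₁Ms hk)) hm
    · rw [hkua]; group
  · intro r hr hrσ hrd
    haveI : Fact r.Prime := ⟨hr⟩
    have hrσMs : r ∈ sigma Ms := Cfsg.Agent.Lib.Helper67.BG.sigmaCore_isPi Ms r hr hrd
    obtain ⟨Rs, hRs, -⟩ := exists_isSylowIn_ge (p := r) (Q := (⊥ : Subgroup G))
      (H := sigmaCore Ms) IsPGroup.of_bot bot_le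
    have hRs1 : Rs ≠ ⊥ := by
      intro h
      have h1 := hRs.2
      rw [h, Subgroup.card_bot] at h1
      have h2 : 0 < (Nat.card (sigmaCore Ms)).factorization r :=
        hr.factorization_pos_of_dvd Nat.card_pos.ne' hrd
      have h3 : 1 < r ^ (Nat.card (sigmaCore Ms)).factorization r :=
        Nat.one_lt_pow h2.ne' hr.one_lt
      omega
    have hRsMs : IsSylowIn r Rs Ms :=
      isSylowIn_of_isSylowIn_of_not_dvd hRs hσle (hHallMs.2.2 r hr hrσMs)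
    have hRstop : IsSylowIn r Rs ⊤ := isSylowIn_top_of_sigma hrσMs hRsMs
    have hRsnorm : Ms ≤ Subgroup.normalizer (Rs : Set G) := by
      intro m hm
      obtain ⟨k, hk, hkm⟩ := frattini_arg hRs (hσnorm hm)
      have hk' := le_normalizer_of_isSylowIn_of_nilpotent hnil hRs hk
      have : m = k * (k⁻¹ * m) := by group
      rw [this]
      exact Subgroup.mul_mem _ hk' hkm
    have hNRs := Cfsg.Agent.Lib.Helper47.BG.normalizer_eq_of_coatom hG hMs hRsMs.1 hRs1 hRsnorm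
    obtain ⟨-, -, P₀, hP₀⟩ := id hrσ
    have hR : IsSylowIn r ((P₀ : Subgroup M).map M.subtype) M := isSylowIn_of_sylow P₀
    have hRtop := isSylowIn_top_of_sigma hrσ hR
    obtain ⟨g, -, hg⟩ := hRtop.exists_conj hRstop
    have hle : Ms ≤ M.map (MulAut.conj g).toMonoidHom := by
      rw [← hNRs, hg, normalizer_map_conj]
      exact Subgroup.map_mono hP₀
    have hco := Cfsg.Agent.Lib.Helper47.isCoatom_map_conj hM g
    rcases eq_or_lt_of_le hle with h | h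
    · exact ha g h
    · exact hco.1 (hMs.2 _ h)

/-- S1425 (up to `M_σ` versus `M`) when `Y` normalizes a nontrivial `q`-subgroup `X` of `M`. -/
theorem s1425_aux {G : Type*} [Group G] [Finite G] (hG : Cfsg.IsMinSimpleOddOrder G)
    (h1350 : type_of% (@Cfsg.CfsgFrozen.S1350 G _ _ hG))
    (h1403 : type_of% (@Cfsg.CfsgFrozen.S1403 G _ _ hG))
    (h1414 : type_of% (@Cfsg.CfsgFrozen.S1414 G _ _ hG))
    (h1416 : type_of% (@Cfsg.CfsgFrozen.S1416 G _ _ hG))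
    (h1417 : type_of% (@Cfsg.CfsgFrozen.S1417 G _ _ hG))
    (h1424 : type_of% (@Cfsg.CfsgFrozen.S1424 G _ _ hG))
    (M : Subgroup G) (hM : IsCoatom M) (Y : Subgroup G)
    (hY : ∀ p : ℕ, p.Prime → p ∣ Nat.card Y → p ∈ Cfsg.sigma M)
    (q : ℕ) [Fact q.Prime] (hq : q ∈ sigma M) (X : Subgroup G) (hXq : IsPGroup q X)
    (hX1 : X ≠ ⊥) (hXM : X ≤ M) (hYX : Y ≤ Subgroup.normalizer (X : Set G)) :
    ∃ g : G, Y.map (MulAut.conj g).toMonoidHom ≤ M := by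
  have hXtop : X ≠ ⊤ := fun h => hM.1 (top_le_iff.mp (h ▸ hXM))
  have hNtop := normalizer_ne_top hG hX1 hXtop
  obtain ⟨Ms, hMs, hNMs⟩ := exists_coatom_ge hNtop
  have hYMs : Y ≤ Ms := hYX.trans hNMs
  by_cases hne : Ms = M
  · exact ⟨1, by rw [Cfsg.Agent.Lib.Helper35.BG.map_conj_one]; exact hne ▸ hYMs⟩
  have hXMs : X ≤ Ms := Subgroup.le_normalizer.trans hNMs
  obtain ⟨S, hXS⟩ : ∃ S : Sylow q ↥(M ⊓ Ms),
      X ≤ (S : Subgroup ↥(M ⊓ Ms)).map (M ⊓ Ms).subtype := by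
    have h1 : IsPGroup q (X.subgroupOf (M ⊓ Ms)) :=
      hXq.of_equiv (Subgroup.subgroupOfEquivOfLe (le_inf hXM hXMs)).symm
    obtain ⟨S, hS⟩ := h1.exists_le_sylow
    refine ⟨S, ?_⟩
    intro x hx
    exact ⟨⟨x, le_inf hXM hXMs hx⟩, hS (Subgroup.mem_subgroupOf.mpr hx), rfl⟩
  obtain ⟨ha, hb, hc⟩ := h1424 M hM q hq X hXq hX1 hXM Ms hMs hne hNMs S hXS
  obtain ⟨S', hS'def⟩ : ∃ S' : Subgroup G,
      S' = (S : Subgroup ↥(M ⊓ Ms)).map (M ⊓ Ms).subtype := ⟨_, rfl⟩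
  rw [← hS'def] at hXS hb hc
  have hSyl : IsSylowIn q S' (M ⊓ Ms) := by rw [hS'def]; exact isSylowIn_of_sylow S
  have hS'q : IsPGroup q S' := sylIn_isPGroup hSyl
  have hS'Ms : S' ≤ Ms := hSyl.1.trans inf_le_right
  have hS'1 : S' ≠ ⊥ := fun h => hX1 (le_bot_iff.mp (h ▸ hXS))
  have hSylMs : IsSylowIn q S' Ms := isSylowIn_of_not_dvd_relIndex hS'q hS'Ms hc
  have hMssolv : Group.IsSolvable Ms := hG.2.2.2 Ms hMs.1
  suffices hcop : (Nat.card Y).Coprime ((M ⊓ Ms).relIndex Ms) by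
    obtain ⟨l, -, hl⟩ := exists_mem_conj_le_of_coprime_relIndex hMssolv hYMs hcop
    exact ⟨l, hl.trans inf_le_left⟩
  suffices hN : ∃ N : Subgroup G, N ≤ Ms ∧ Ms ≤ Subgroup.normalizer (N : Set G) ∧
      (∀ m ∈ Ms, ∃ n ∈ N, ∃ d ∈ M ⊓ Ms, m = n * d) ∧
      ∀ r : ℕ, r.Prime → r ∈ sigma M → ¬ r ∣ Nat.card N by
    obtain ⟨N, hNMs', hNnorm, hNmul, hNσ⟩ := hN
    have hdvd := relIndex_dvd_card_of_forall_mul hNMs' hNnorm hNmul
    by_contra hc'
    rw [Nat.Prime.not_coprime_iff_dvd] at hc'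
    obtain ⟨r, hr, hr1, hr2⟩ := hc'
    exact hNσ r hr (hY r hr hr1) (hr2.trans hdvd)
  have hrank : ∀ r : ℕ, r.Prime → r ∈ sigma M → PRankLE r 2 Ms := by
    intro r hr hrσ
    by_contra hrk
    haveI : Fact r.Prime := ⟨hr⟩
    obtain ⟨g, hg⟩ := conj_of_sigma_of_rank3 hG h1403 hM hMs hrσ hrk
    exact ha g hg
  by_cases hqs : q ∈ sigma Ms
  · exact s1425_case_d hG h1350 h1403 h1414 hMs hq hSylMs hb hrank hqs
  · exact s1425_case_e hG h1350 h1416 h1417 hM hMs hq hXS hNMs hSylMs hS'1 hb ha hrank hqs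

/-- Statement S1425 (BG Lemma 12.14, first part) from S1350, S1403, S1414, S1416, S1417 and
S1424. -/
theorem s1425_core {G : Type*} [Group G] [Finite G] (hG : Cfsg.IsMinSimpleOddOrder G)
    (h1350 : type_of% (@Cfsg.CfsgFrozen.S1350 G _ _ hG))
    (h1403 : type_of% (@Cfsg.CfsgFrozen.S1403 G _ _ hG))
    (h1414 : type_of% (@Cfsg.CfsgFrozen.S1414 G _ _ hG))
    (h1416 : type_of% (@Cfsg.CfsgFrozen.S1416 G _ _ hG))
    (h1417 : type_of% (@Cfsg.CfsgFrozen.S1417 G _ _ hG))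
    (h1424 : type_of% (@Cfsg.CfsgFrozen.S1424 G _ _ hG))
    (M : Subgroup G) (hM : IsCoatom M) (Y : Subgroup G) (hY1 : Y ≠ ⊥)
    (hY : ∀ p : ℕ, p.Prime → p ∣ Nat.card Y → p ∈ Cfsg.sigma M) :
    ∃ g : G, Y.map (MulAut.conj g).toMonoidHom ≤ Cfsg.sigmaCore M := by
  have hHallM := (h1350 M hM).1
  suffices hsuff : ∃ g : G, Y.map (MulAut.conj g).toMonoidHom ≤ M by
    obtain ⟨g, hg⟩ := hsuff
    refine ⟨g, le_sigmaCore_of_le hHallM hg ?_⟩
    intro p hp hpd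
    rw [card_map_conj] at hpd
    exact hY p hp hpd
  have hYtop : Y ≠ ⊤ := by
    intro hYt
    have hHallG := (h1350 M hM).2.1
    have h1 : (sigmaCore M).index = 1 := by
      by_contra hne
      obtain ⟨p, hp, hpd⟩ := Nat.exists_prime_and_dvd hne
      have h2 : p ∣ Nat.card Y := by
        rw [hYt, Subgroup.card_top]
        exact hpd.trans (Subgroup.index_dvd_card _)
      exact hHallG.2 p hp (hY p hp h2) hpd
    rw [Subgroup.index_eq_one] at h1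
    exact hM.1 (top_le_iff.mp (h1 ▸ Cfsg.Agent.Lib.Helper67.BG.sigmaCore_le M))
  haveI hYsolv : Group.IsSolvable Y := hG.2.2.2 Y hYtop
  haveI : Nontrivial Y := (Subgroup.nontrivial_iff_ne_bot Y).mpr hY1
  obtain ⟨Q, q, k, hQn, -, hqp, hk, hQcard⟩ :=
    Cfsg.Agent.Lib.Helper1.exists_minNormal_pGroup ↥Y
  haveI : Fact q.Prime := ⟨hqp⟩
  obtain ⟨X, hXdef⟩ : ∃ X : Subgroup G, X = Q.map Y.subtype := ⟨_, rfl⟩
  have hXcard : Nat.card X = q ^ k := by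
    rw [hXdef, Subgroup.card_map_of_injective Y.subtype_injective, hQcard]
  have hXq : IsPGroup q X := IsPGroup.of_card hXcard
  have hXY : X ≤ Y := by rw [hXdef]; exact Subgroup.map_subtype_le _
  have hX1 : X ≠ ⊥ := by
    intro h
    rw [h, Subgroup.card_bot] at hXcard
    have : 1 < q ^ k := Nat.one_lt_pow hk.ne' hqp.one_lt
    omega
  have hYX : Y ≤ Subgroup.normalizer (X : Set G) := by
    rw [hXdef]; exact le_normalizer_map_subtype_of_normal Y Q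
  have hq : q ∈ sigma M := by
    apply hY q hqp
    have h1 : q ∣ Nat.card X := by rw [hXcard]; exact dvd_pow_self q hk.ne'
    exact h1.trans (Subgroup.card_dvd_of_le hXY)
  -- conjugate `X` into `M`
  obtain ⟨-, -, P₀, -⟩ := id hq
  have hR : IsSylowIn q ((P₀ : Subgroup M).map M.subtype) M := isSylowIn_of_sylow P₀
  have hRtop := isSylowIn_top_of_sigma hq hR
  obtain ⟨R', hR', hXR'⟩ := exists_isSylowIn_ge hXq (le_top : X ≤ ⊤)
  obtain ⟨g, -, hg⟩ := hRtop.exists_conj hR'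
  have hXgM : X.map (MulAut.conj g⁻¹).toMonoidHom ≤ M := by
    rintro _ ⟨x, hx, rfl⟩
    have h1 := hXR' hx
    rw [hg, Cfsg.Agent.Lib.Helper35.BG.mem_map_conj_iff] at h1
    have h2 := hR.1 h1
    simpa [MulAut.conj_apply] using h2
  have key := s1425_aux hG h1350 h1403 h1414 h1416 h1417 h1424 M hM
    (Y.map (MulAut.conj g⁻¹).toMonoidHom)
    (by intro p hp hpd; rw [card_map_conj] at hpd; exact hY p hp hpd)
    q hq (X.map (MulAut.conj g⁻¹).toMonoidHom) (isPGroup_map_conj hXq g⁻¹)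
    (by
      intro h
      apply hX1
      rw [Subgroup.map_eq_bot_iff_of_injective _ (MulAut.conj g⁻¹).injective] at h
      exact h)
    hXgM
    (by
      rw [normalizer_map_conj]
      exact Subgroup.map_mono hYX)
  obtain ⟨g', hg'⟩ := key
  refine ⟨g' * g⁻¹, ?_⟩
  rw [← Cfsg.Agent.Lib.Helper35.BG.map_conj_mul]
  exact hg'

end Cfsg.Agent.Lib.Helper74.BG
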