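import Mathlib
import Cfsg.Agent.Lib.Helper15.BG.Tau12Defs
import Cfsg.Agent.Lib.Helper15.BG.Signalizer
import Cfsg.Agent.Lib.Helper35.BG.Basic
import Cfsg.Agent.Lib.Helper85.BG.Tau1Semiprime

/-!
# Bender–Glauberman 13.12, `M`-side, package Struct (helper74)

Steps (1)–(3) of the proof of `tau12_regular` (helper15's project T12M, note 2141; originally
helper76's note 1998): in a would-be counterexample, `A₀ := C_A(P)` has order `q`,
`C_{M_σ}(A₀) ≠ 1`, `N(A₀) ≤ M`, and some `q`-element of `N(A)` does not centralize `A`.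
-/

set_option autoImplicit false

namespace Cfsg.Agent.Lib.Helper74.BG

open Cfsg

universe u

/-- If `[N, N]` centralizes `A` (where `N` normalizes `A`) then `N` normalizes `C_A(P)` for every
subgroup `P ≤ N`. -/
theorem normalizes_fix_of_comm_le {G : Type u} [Group G] (N A P : Subgroup G)
    (hNA : N ≤ Subgroup.normalizer (A : Set G)) (hPN : P ≤ N)
    (hcomm : ⁅N, N⁆ ≤ Subgroup.centralizer (A : Set G)) :
    N ≤ Subgroup.normalizer ((A ⊓ Subgroup.centralizer (P : Set G) : Subgroup G) : Set G) := by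
  have key : ∀ n ∈ N, ∀ a ∈ A ⊓ Subgroup.centralizer (P : Set G),
      n * a * n⁻¹ ∈ A ⊓ Subgroup.centralizer (P : Set G) := by
    intro n hn a ha
    refine ⟨(Subgroup.mem_normalizer_iff.mp (hNA hn) a).mp ha.1, ?_⟩
    show n * a * n⁻¹ ∈ Subgroup.centralizer (P : Set G)
    rw [Subgroup.mem_centralizer_iff]
    intro x hx
    have hc : n⁻¹ * x * n * x⁻¹ ∈ Subgroup.centralizer (A : Set G) := by
      apply hcomm
      have := Subgroup.commutator_mem_commutator (N.inv_mem hn) (hPN hx)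
      rw [commutatorElement_def] at this
      simpa using this
    have hca : a * (n⁻¹ * x * n * x⁻¹) = (n⁻¹ * x * n * x⁻¹) * a :=
      (Subgroup.mem_centralizer_iff.mp hc) a ha.1
    have hxa : x * a = a * x := (Subgroup.mem_centralizer_iff.mp ha.2) x hx
    calc x * (n * a * n⁻¹) = n * ((n⁻¹ * x * n * x⁻¹) * (x * a)) * n⁻¹ := by group
      _ = n * ((n⁻¹ * x * n * x⁻¹) * (a * x)) * n⁻¹ := by rw [hxa]
      _ = n * (((n⁻¹ * x * n * x⁻¹) * a) * x) * n⁻¹ := by group
      _ = n * ((a * (n⁻¹ * x * n * x⁻¹)) * x) * n⁻¹ := by rw [hca]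
      _ = n * a * n⁻¹ * x := by group
  intro n hn
  rw [Subgroup.mem_normalizer_iff]
  intro h
  constructor
  · exact key n hn h
  · intro hh
    have := key n⁻¹ (N.inv_mem hn) _ hh
    have e : n⁻¹ * (n * h * n⁻¹) * n⁻¹⁻¹ = h := by group
    rwa [e] at this

/-- Package Struct of helper15's T12M project. -/
theorem pkStruct : Cfsg.Agent.Lib.Helper15.BG.T12.PkStruct.{u} := by
  intro G _ _ hG hy M E A P p q cx
  obtain ⟨hM, hE, hq, hAE, hAe, hA2, hp, hPE, hP, hne, hD⟩ := cx
  have hqp : q.Prime := hq.1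
  haveI : Fact q.Prime := ⟨hqp⟩
  have hEM : E ≤ M := hE.1
  have h17 := hy.h1417 M hM q hq A ⟨hAE.trans hEM, hAe, hA2⟩
  obtain ⟨⟨hEN, _⟩, ⟨_, hMN, hNM⟩, h18c⟩ := hy.h1418 M hM E hE q hq A ⟨hAE, hAe, hA2⟩
  have hA0le : A ⊓ Subgroup.centralizer (P : Set G) ≤ A := inf_le_left
  -- (1) `|A₀| = q`
  have hcard : Nat.card ↥(A ⊓ Subgroup.centralizer (P : Set G)) = q := by
    have hdvd : Nat.card ↥(A ⊓ Subgroup.centralizer (P : Set G)) ∣ q ^ 2 := by
      rw [← hA2]; exact Subgroup.card_dvd_of_le hA0le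
    obtain ⟨k, hk, hk'⟩ := (Nat.dvd_prime_pow hqp).mp hdvd
    interval_cases k
    · exfalso
      apply hne
      exact Subgroup.eq_bot_of_card_eq _ (by simpa using hk')
    · simpa using hk'
    · exfalso
      have hAA : A ⊓ Subgroup.centralizer (P : Set G) = A :=
        Subgroup.eq_of_le_of_card_ge hA0le (by rw [hk', hA2])
      have hAC : A ≤ Subgroup.centralizer (P : Set G) := by
        rw [← hAA]; exact inf_le_right
      obtain ⟨A₁, hA₁A, hA₁c, hA₁⟩ := h17.2.2.2.2.2
      have h28 := hy.h1428 M hM E hE p hp P hPE hP A₁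
        (le_inf (hA₁A.trans hAE) (hA₁A.trans hAC)) (by rw [hA₁c]; exact hqp)
      rw [hA₁] at h28
      exact hD (le_bot_iff.mp h28)
  -- (2) `C_{M_σ}(A₀) ≠ 1`
  have h2 : Cfsg.sigmaCore M ⊓
      Subgroup.centralizer ((A ⊓ Subgroup.centralizer (P : Set G) : Subgroup G) : Set G) ≠ ⊥ := by
    intro h
    have h28 := hy.h1428 M hM E hE p hp P hPE hP (A ⊓ Subgroup.centralizer (P : Set G))
      (le_inf (hA0le.trans hAE) inf_le_right) (by rw [hcard]; exact hqp)
    rw [h] at h28
    exact hD (le_bot_iff.mp h28)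
  -- (3) `N(A₀) ≤ M`
  have hAtop : A ≠ ⊤ := by
    intro h
    have : (⊤ : Subgroup G) ≤ M := by rw [← h]; exact hAE.trans hEM
    exact hM.1 (top_le_iff.mp this)
  have hA0top : A ⊓ Subgroup.centralizer (P : Set G) ≠ ⊤ := by
    intro h
    apply hAtop
    exact top_le_iff.mp (by rw [← h]; exact hA0le)
  have hAbot : A ≠ ⊥ := by
    intro h
    apply hne
    rw [h]; simp
  have h3 : Subgroup.normalizer ((A ⊓ Subgroup.centralizer (P : Set G) : Subgroup G) : Set G)
      ≤ M := by
    obtain ⟨hCM, huniq⟩ := h18c (A ⊓ Subgroup.centralizer (P : Set G)) hA0le hcard h2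
    obtain ⟨L, hL, hNL⟩ := Cfsg.Agent.Lib.Helper35.BG.exists_coatom_ge
      (Cfsg.Agent.Lib.Helper35.BG.normalizer_ne_top hG hne hA0top)
    have hLM : L = M := huniq L hL ((Subgroup.centralizer_le_normalizer _).trans hNL)
    rw [← hLM]; exact hNL
  refine ⟨hcard, h2, h3, ?_⟩
  -- (4) a `q`-element of `N(A)` not centralizing `A`
  by_contra hcon
  push Not at hcon
  apply hNM
  have hq2 : q ≠ 2 := by
    intro h
    have hodd := Cfsg.Agent.Lib.Helper35.BG.odd_card_subgroup hG A
    rw [hA2, h] at hodd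
    exact absurd hodd (by decide)
  have hAp : IsPGroup q A := IsPGroup.of_card hA2
  have hNtop : Subgroup.normalizer (A : Set G) ≠ ⊤ :=
    Cfsg.Agent.Lib.Helper35.BG.normalizer_ne_top hG hAbot hAtop
  have hsolv : Group.IsSolvable (Subgroup.normalizer (A : Set G)) :=
    Cfsg.Agent.Lib.Helper35.BG.isSolvable_of_ne_top hG hNtop
  have hodd : Odd (Nat.card (Subgroup.normalizer (A : Set G))) :=
    Cfsg.Agent.Lib.Helper35.BG.odd_card_subgroup hG _
  have hb : ∀ B : Subgroup G, B ≤ A → IsElementaryAbelian q B → A ≤ B → Nat.card B ≤ q ^ 2 := by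
    intro B hBA _ hAB
    rw [le_antisymm hBA hAB, hA2]
  have hcomm : ⁅Subgroup.normalizer (A : Set G), Subgroup.normalizer (A : Set G)⁆
      ≤ Subgroup.centralizer (A : Set G) := by
    intro x hx
    apply Cfsg.Agent.Lib.Helper85.BG.mem_of_prime_power_mem
    intro y hy r hr hyr
    have hyc : y ∈ ⁅Subgroup.normalizer (A : Set G), Subgroup.normalizer (A : Set G)⁆ :=
      ((Subgroup.zpowers_le).mpr hx) hy
    have hyN : y ∈ Subgroup.normalizer (A : Set G) :=
      (Subgroup.commutator_le_self _) hyc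
    by_cases hrq : r = q
    · subst hrq
      have ho : orderOf y = r ^ (orderOf y).primeFactorsList.length :=
        Nat.eq_prime_pow_of_unique_prime_dvd (orderOf_pos y).ne' (fun {d} hd hdvd => hyr d hd hdvd)
      have hpow : y ^ r ^ (orderOf y).primeFactorsList.length = 1 := by
        rw [← ho]; exact pow_orderOf_eq_one y
      have := hcon y hyN ⟨_, hpow⟩
      rw [Subgroup.mem_centralizer_iff]
      intro a ha
      exact (this a ha).symm
    · have hcop : (orderOf y).Coprime q := by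
        apply Nat.Coprime.symm
        rw [Nat.Prime.coprime_iff_not_dvd hqp]
        intro h
        exact hrq (hyr q hqp h).symm
      exact Cfsg.Agent.Lib.Helper15.BG.comm_normalizer_centralizes q hq2 A hAp hsolv hodd A le_rfl
        hAe hb y hyc hcop
  exact (normalizes_fix_of_comm_le (Subgroup.normalizer (A : Set G)) A P le_rfl
    (hPE.trans hEN) hcomm).trans h3

end Cfsg.Agent.Lib.Helper74.BG
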