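import Mathlib
import Cfsg.Statements.S1403
import Cfsg.Statements.S1404
import Cfsg.Statements.S1405
import Cfsg.Statements.S1414
import Cfsg.Agent.S0025
import Cfsg.Agent.Lib.Helper35.BG.Basic
import Cfsg.Agent.Lib.Helper35.BG30.GL
import Cfsg.Agent.Lib.Helper46.BG.S1414Core
import Cfsg.Agent.Lib.Helper98.BG.SigmaA
import Cfsg.Agent.Lib.Helper29.BG.S1428K0
import Cfsg.Agent.Lib.Helper29.BG.S1416B
import Cfsg.Agent.Lib.Helper34.NPC
import Cfsg.Agent.Lib.Helper61.BG9a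
import Cfsg.Agent.Lib.Helper66.BG.S1350Core
import Cfsg.Agent.Lib.Helper85.BG.Tau1Semiprime
import Cfsg.Agent.Lib.Helper37.BG.S1421Nfin
import Cfsg.Agent.Lib.Helper13.BG.Tools
import Cfsg.Agent.Lib.Helper24.BG.S1431Util
import Cfsg.Agent.Lib.Helper1.MixBase

/-!
# Bender–Glauberman 13.3 ("Lemma L4" of note 2127), the front half (helper74)

Setting: `M` a maximal subgroup, `p ∈ τ₁(M)`, `P ≤ M` of order `p`, `Q ≠ 1` a `P`-invariant
Sylow `q`-subgroup of `M` with `C_Q(P) = 1` and `N(Q) ≤ M* ≠ M`.  Then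

* (i) `Q = [Q, P]`;
* (ii) `q ∉ α(M)`;
* (iii) `M = M_α N_M(Q)`;
* (iv) `M_α ≠ 1`;
* (v) `α(M) ⊆ β(M)`.

The back half ((vi), (vii): `C_{M_α}(P)` is a non-trivial Z-group and `C_{M_α}(QP) = 1`) is
`l4_cent` of helper2 / helper23.
-/

set_option autoImplicit false
set_option linter.style.haveILetI false

namespace Cfsg.Agent.Lib.Helper74.BG

open Cfsg Cfsg.Agent.Lib.Helper46 Cfsg.Agent.Lib.Helper35.BG

universe u

/-- If `k ∈ K` normalizes `U` and centralizes no non-identity element of `U`, then every element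
of `U` is a commutator `[u, k]` with `u ∈ U`: `U ≤ [U, K]`. -/
theorem le_commutator_of_fpf_gen {G : Type*} [Group G] [Finite G] {U K : Subgroup G}
    (hKU : K ≤ Subgroup.normalizer (U : Set G)) {k : G} (hk : k ∈ K)
    (hfpf : U ⊓ Subgroup.centralizer ({k} : Set G) = ⊥) : U ≤ ⁅U, K⁆ := by
  have hmem : ∀ u ∈ U, u * k * u⁻¹ * k⁻¹ ∈ U := by
    intro u hu
    have h1 : k * u⁻¹ * k⁻¹ ∈ U :=
      (Subgroup.mem_normalizer_iff.mp (hKU hk) u⁻¹).mp (U.inv_mem hu)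
    have h2 := U.mul_mem hu h1
    simpa [mul_assoc] using h2
  let f : U → U := fun u => ⟨(u : G) * k * (u : G)⁻¹ * k⁻¹, hmem u u.2⟩
  have hinj : Function.Injective f := by
    intro u v huv
    have h1 : (u : G) * k * (u : G)⁻¹ * k⁻¹ = (v : G) * k * (v : G)⁻¹ * k⁻¹ :=
      congrArg Subtype.val huv
    have h3 : (u : G) * k * (u : G)⁻¹ = (v : G) * k * (v : G)⁻¹ := by
      have := congrArg (· * k) h1
      simpa [mul_assoc] using this
    have h2 : (v : G)⁻¹ * u ∈ U ⊓ Subgroup.centralizer ({k} : Set G) := by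
      refine ⟨U.mul_mem (U.inv_mem v.2) u.2, ?_⟩
      show (v : G)⁻¹ * u ∈ Subgroup.centralizer ({k} : Set G)
      rw [Subgroup.mem_centralizer_iff]
      intro x hx
      rw [Set.mem_singleton_iff] at hx
      subst hx
      calc x * ((v : G)⁻¹ * u) = (v : G)⁻¹ * ((v : G) * x * (v : G)⁻¹) * u := by group
        _ = (v : G)⁻¹ * ((u : G) * x * (u : G)⁻¹) * u := by rw [h3]
        _ = (v : G)⁻¹ * u * x := by group
    rw [hfpf, Subgroup.mem_bot] at h2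
    apply Subtype.ext
    have h4 : (u : G) = (v : G) * ((v : G)⁻¹ * u) := by group
    rw [h4, h2, mul_one]
  have hsurj : Function.Surjective f := Finite.surjective_of_injective hinj
  intro w hw
  obtain ⟨u, hu⟩ := hsurj ⟨w, hw⟩
  have h1 : (u : G) * k * (u : G)⁻¹ * k⁻¹ = w := congrArg Subtype.val hu
  rw [← h1]
  have := Subgroup.commutator_mem_commutator u.2 hk
  rwa [commutatorElement_def] at this

/-- **Lemma L4, front half** (BG 13.3, steps (i)–(v) of note 2127). -/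
theorem l4_front {G : Type u} [Group G] [Finite G] (hG : Cfsg.IsMinSimpleOddOrder G)
    (h1403 : type_of% (@Cfsg.CfsgFrozen.S1403 G _ _ hG))
    (h1404 : type_of% (@Cfsg.CfsgFrozen.S1404 G _ _ hG))
    (h1405 : type_of% (@Cfsg.CfsgFrozen.S1405 G _ _ hG))
    (h1414 : type_of% (@Cfsg.CfsgFrozen.S1414 G _ _ hG))
    (M Ms : Subgroup G) (hM : IsCoatom M) (hMs : IsCoatom Ms) (hne : Ms ≠ M)
    (p : ℕ) (hp : p ∈ Cfsg.tau1 M) (P : Subgroup G) (hPM : P ≤ M) (hP : Nat.card P = p)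
    (q : ℕ) (Q : Subgroup G) (hq : q.Prime) (hQ : IsSylowIn q Q M) (_hQ1 : Q ≠ ⊥)
    (hPQ : P ≤ Subgroup.normalizer (Q : Set G))
    (hCQP : Q ⊓ Subgroup.centralizer (P : Set G) = ⊥)
    (hNQ : Subgroup.normalizer (Q : Set G) ≤ Ms) :
    Q ≤ ⁅Q, P⁆ ∧ q ∉ Cfsg.alpha M ∧
      (∀ m ∈ M, ∃ a ∈ Cfsg.alphaCore M, ∃ n ∈ M ⊓ Subgroup.normalizer (Q : Set G), m = a * n) ∧
      M ≤ Cfsg.alphaCore M ⊔ (M ⊓ Subgroup.normalizer (Q : Set G)) ∧
      Cfsg.alphaCore M ≠ ⊥ ∧ (∀ s ∈ Cfsg.alpha M, s ∈ Cfsg.beta M) := by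
  have hpp : p.Prime := hp.1
  haveI : Fact p.Prime := ⟨hpp⟩
  haveI : Fact q.Prime := ⟨hq⟩
  have hQq : IsPGroup q Q := sylIn_isPGroup hQ
  have hQM : Q ≤ M := hQ.1
  have hDM : ⁅M, M⁆ ≤ M := Cfsg.Agent.Lib.Helper29.BG.commutator_self_le M
  -- a generator of `P`
  have hP1 : P ≠ ⊥ := by
    intro h
    rw [h, Subgroup.card_bot] at hP
    exact hpp.one_lt.ne' hP.symm
  obtain ⟨⟨k, hkP⟩, hk1'⟩ := (Subgroup.ne_bot_iff_exists_ne_one).mp hP1
  have hk1 : k ≠ 1 := fun h => hk1' (Subtype.ext h)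
  have hPk : P ≤ Subgroup.zpowers k :=
    Cfsg.Agent.Lib.Helper37.BG.le_zpowers_of_card_prime P p hP k hkP hk1
  have hCk : Q ⊓ Subgroup.centralizer ({k} : Set G) = ⊥ := by
    rw [← Cfsg.Agent.Lib.Helper85.BG.centralizer_zpowers_eq_singleton k]
    apply le_bot_iff.mp
    rw [← hCQP]
    exact inf_le_inf le_rfl (centralizer_anti hPk)
  -- (i)
  have hi : Q ≤ ⁅Q, P⁆ := le_commutator_of_fpf_gen hPQ hkP hCk
  have hQD : Q ≤ ⁅M, M⁆ := hi.trans (Subgroup.commutator_mono hQM hPM)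
  -- (ii)
  have hqα : q ∉ Cfsg.alpha M := by
    intro hα
    have hnr2 : ¬ PRankLE q 2 Q := fun h => hα.2 (pRankLE_of_isSylowIn hQ h)
    have hnr1 : ¬ PRankLE q 1 Q := fun h => hnr2 (pRankLE_mono hq.pos (by norm_num) h)
    have hQtop : Q ≠ ⊤ := fun h => hM.1 (top_le_iff.mp (h ▸ hQM))
    have hU : InUniqueMaximal Q :=
      h1403 Q hQtop (not_rankLE_of_not_pRankLE hnr1) (Or.inl (not_rankLE_of_not_pRankLE hnr2))
    exact hne (Cfsg.Agent.Lib.Helper61.bg_unique_eq hU hM hQM hMs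
      (Subgroup.le_normalizer.trans hNQ)).symm
  have hqβ : q ∉ Cfsg.beta M := fun h => hqα h.1
  -- (iii)
  have hQsylD : IsSylowIn q Q ⁅M, M⁆ := sylIn_mono hQ hQD hDM
  obtain ⟨-, hK⟩ := Cfsg.Agent.Lib.Helper29.BG.lemK_sylow_commutator hG h1414 M hM q hqβ Q hQsylD
  have hfact : ∀ m ∈ M, ∃ a ∈ Cfsg.alphaCore M,
      ∃ n ∈ M ⊓ Subgroup.normalizer (Q : Set G), m = a * n := by
    intro m hm
    obtain ⟨b, hb, s, hs, h⟩ := hK m hm
    have hbM : b ∈ M := hDM hb.1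
    have hsM : s ∈ M := hQM hs
    refine ⟨b, Cfsg.Agent.Lib.Helper98.BG13.betaCore_le_alphaCore M hb.2, s * ((b * s)⁻¹ * m),
      ⟨M.mul_mem hsM (M.mul_mem (M.inv_mem (M.mul_mem hbM hsM)) hm),
        Subgroup.mul_mem _ (Subgroup.le_normalizer hs) h⟩, by group⟩
  have hsup : M ≤ Cfsg.alphaCore M ⊔ (M ⊓ Subgroup.normalizer (Q : Set G)) := by
    intro m hm
    obtain ⟨a, ha, n, hn, rfl⟩ := hfact m hm
    exact Subgroup.mul_mem_sup ha hn
  -- (iv)
  have hα1 : Cfsg.alphaCore M ≠ ⊥ := by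
    intro h
    have hMN : M ≤ Subgroup.normalizer (Q : Set G) := by
      intro m hm
      obtain ⟨a, ha, n, hn, rfl⟩ := hfact m hm
      rw [h, Subgroup.mem_bot] at ha
      rw [ha, one_mul]; exact hn.2
    exact hne ((hM.le_iff.mp (hMN.trans hNQ)).resolve_left hMs.1)
  refine ⟨hi, hqα, hfact, hsup, hα1, ?_⟩
  -- (v)
  intro s hs
  by_contra hsβ
  have hsp : s.Prime := hs.1
  haveI : Fact s.Prime := ⟨hsp⟩
  have hsq : s ≠ q := by rintro rfl; exact hqα hs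
  have hsσ : s ∈ sigma M := Cfsg.Agent.Lib.Helper46.BG.mem_sigma_of_mem_alpha hG h1405 hM hs
  have hpα : p ∉ alpha M := fun h => h.2 (pRankLE_mono hpp.pos (by norm_num) hp.2.2.2.2)
  obtain ⟨hHallα, -, hασ, -, -⟩ := h1405 M hM
  have hAM : Q ⊔ P ≤ M := sup_le hQM hPM
  have hAN : Q ⊔ P ≤ Subgroup.normalizer ((alphaCore M : Subgroup G) : Set G) :=
    hAM.trans (Cfsg.Agent.Lib.Helper29.BG.alphaCore_normalizer' M)
  have hcop : (Nat.card (Q ⊔ P : Subgroup G)).Coprime (Nat.card (alphaCore M)) := by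
    have hdvd : Nat.card (Q ⊔ P : Subgroup G) ∣ Nat.card P * Nat.card Q := by
      rw [sup_comm]; exact Cfsg.Agent.Lib.Helper1.Mix.card_sup_dvd P Q hPQ
    apply Nat.Coprime.coprime_dvd_left hdvd
    apply Nat.Coprime.mul_left
    · rw [hP, Nat.Prime.coprime_iff_not_dvd hpp]
      intro hd
      exact hpα (hHallα.2.1 p hpp hd)
    · obtain ⟨j, hj⟩ := IsPGroup.iff_card.mp hQq
      rw [hj]
      apply Nat.Coprime.pow_left
      rw [Nat.Prime.coprime_iff_not_dvd hq]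
      intro hd
      exact hqα (hHallα.2.1 q hq hd)
  have hαtop : alphaCore M ≠ ⊤ := fun h => hM.1 (top_le_iff.mp (h ▸ hHallα.1))
  have hsolv : Group.IsSolvable (alphaCore M) := isSolvable_of_ne_top hG hαtop
  obtain ⟨S0, -, hAS⟩ := Cfsg.Agent.S0025.result (Q ⊔ P) (alphaCore M) hAN hcop (Or.inr hsolv) s ⊥
    bot_le IsPGroup.of_bot (by
      intro x _
      rw [Subgroup.mem_normalizer_iff]
      intro y
      simp [Subgroup.mem_bot])
  obtain ⟨S, hSdef⟩ : ∃ S : Subgroup G,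
      S = (S0 : Subgroup (alphaCore M)).map (alphaCore M).subtype := ⟨_, rfl⟩
  rw [← hSdef] at hAS
  have hSsyl : IsSylowIn s S (alphaCore M) := by rw [hSdef]; exact isSylowIn_of_sylow S0
  have hSs : IsPGroup s S := sylIn_isPGroup hSsyl
  have hSM : IsSylowIn s S M := by
    apply Cfsg.Agent.Lib.Helper13.BG.isSylowIn_of_not_dvd_relIndex hSs (hSsyl.1.trans hHallα.1)
    rw [← Subgroup.relIndex_mul_relIndex _ _ _ hSsyl.1 hHallα.1]
    intro hdvd
    rcases (Nat.Prime.dvd_mul hsp).mp hdvd with h | h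
    · exact Cfsg.Agent.Lib.Helper24.BG31.sylIn_not_dvd_relIndex hSsyl h
    · exact hHallα.2.2 s hsp hs h
  -- `S` lies in a unique maximal subgroup
  have hnr2 : ¬ PRankLE s 2 S := fun h => hs.2 (pRankLE_of_isSylowIn hSM h)
  have hnr1 : ¬ PRankLE s 1 S := fun h => hnr2 (pRankLE_mono hsp.pos (by norm_num) h)
  have hStop : S ≠ ⊤ := fun h => hM.1 (top_le_iff.mp (h ▸ hSM.1))
  have hU : InUniqueMaximal S :=
    h1403 S hStop (not_rankLE_of_not_pRankLE hnr1) (Or.inl (not_rankLE_of_not_pRankLE hnr2))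
  -- `Q` centralizes `S`, by the normal `s`-complement of `M'`
  have hnpc : HasNormalPComplement s ↥⁅M, M⁆ :=
    ((h1414 M hM).2.2.2.2 s hsp hsσ.2.1 hsβ).1
  have hifc : Cfsg.Agent.Lib.Helper34.IFC s ⁅M, M⁆ :=
    (Cfsg.Agent.Lib.Helper34.ifc_iff_hnpc ⁅M, M⁆).mpr hnpc
  have hSD : S ≤ ⁅M, M⁆ :=
    (hSsyl.1.trans hασ).trans (Cfsg.Agent.Lib.Helper66.BG.sigmaCore_le_commutator hG h1404 M hM)
  have hQS : Q ≤ Subgroup.centralizer (S : Set G) := by
    intro g hg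
    apply hifc S hSD hSs g (hQD hg) ((le_sup_left.trans hAS) hg)
    obtain ⟨j, hj⟩ := hQq ⟨g, hg⟩
    have hj' : g ^ q ^ j = 1 := by
      have := congrArg Subtype.val hj
      simpa using this
    exact Nat.Coprime.coprime_dvd_left (orderOf_dvd_of_pow_eq_one hj')
      (Nat.Coprime.pow_left j ((Nat.coprime_primes hq hsp).mpr (Ne.symm hsq)))
  have hSMs : S ≤ Ms :=
    ((Subgroup.le_centralizer_iff.mp hQS).trans (centralizer_le_normalizer' Q)).trans hNQ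
  exact hne (Cfsg.Agent.Lib.Helper61.bg_unique_eq hU hM hSM.1 hMs hSMs).symm

end Cfsg.Agent.Lib.Helper74.BG
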